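import Mathlib
import Groth.Prelude.Def_W4stkremschemesLRS
import Groth.Agent.Lib.Helper8.LRSFac.Hom

/-! helper5: the kernel of a closed immersion of a locally ringed space into a scheme is a
quasi-coherent ideal sheaf (`IdealSheafData`).  For S9505 / S9506. -/

set_option autoImplicit false

universe u

open CategoryTheory TopologicalSpace Opposite AlgebraicGeometry

namespace Groth.Agent.H5.LRSCI

variable {X : Scheme.{u}} {Z : LocallyRingedSpace.{u}} (i : Z ⟶ X.toLocallyRingedSpace)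

/-- kernel on sections. -/
def K (U : X.Opens) : Ideal Γ(X, U) := RingHom.ker (i.c.app (op U)).hom

/-- kernel on stalks. -/
noncomputable def Kx (x : X) : Ideal (X.presheaf.stalk x) :=
  RingHom.ker ((TopCat.Presheaf.stalkFunctor CommRingCat x).map i.c).hom

theorem mem_K {U : X.Opens} (s : Γ(X, U)) : s ∈ K i U ↔ i.c.app (op U) s = 0 := Iff.rfl

theorem K_res {U V : X.Opens} (h : V ≤ U) {s : Γ(X, U)} (hs : s ∈ K i U) :
    X.presheaf.map (homOfLE h).op s ∈ K i V := by
  rw [mem_K] at hs ⊢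
  have := Groth.Agent.H8.LRSFac.nat_c i h s
  rw [hs, map_zero] at this
  exact this

theorem germ_mem {U : X.Opens} {s : Γ(X, U)} (hs : s ∈ K i U) (x : X) (hx : x ∈ U) :
    X.presheaf.germ U x hx s ∈ Kx i x := by
  rw [mem_K] at hs
  show (TopCat.Presheaf.stalkFunctor CommRingCat x).map i.c (X.presheaf.germ U x hx s) = 0
  have := TopCat.Presheaf.stalkFunctor_map_germ_apply U x hx i.c s
  rw [this, hs, map_zero]
  rfl

/-- local-global principle for ideal membership on an affine open. -/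
theorem mem_of_forall_germ {U : X.Opens} (hU : IsAffineOpen U) (J : Ideal Γ(X, U)) (s : Γ(X, U))
    (h : ∀ (x : X) (hx : x ∈ U),
      X.presheaf.germ U x hx s ∈ J.map (X.presheaf.germ U x hx).hom) : s ∈ J := by
  by_contra hs
  let I : Ideal Γ(X, U) :=
    { carrier := {a | a * s ∈ J}
      add_mem' := fun {a b} ha hb => by
        show (a + b) * s ∈ J
        rw [add_mul]; exact J.add_mem ha hb
      zero_mem' := by show (0 : Γ(X, U)) * s ∈ J; rw [zero_mul]; exact J.zero_mem
      smul_mem' := fun c a ha => by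
        show (c • a) * s ∈ J
        rw [smul_eq_mul, mul_assoc]; exact J.mul_mem_left c ha }
  have hI : I ≠ ⊤ := by
    intro hI
    have : (1 : Γ(X, U)) ∈ I := hI ▸ Submodule.mem_top
    have h1 : (1 : Γ(X, U)) * s ∈ J := this
    rw [one_mul] at h1
    exact hs h1
  obtain ⟨P, hP, hIP⟩ := Ideal.exists_le_maximal I hI
  let y : PrimeSpectrum Γ(X, U) := ⟨P, hP.isPrime⟩
  have hy : hU.fromSpec y ∈ U := by
    have : hU.fromSpec y ∈ Set.range hU.fromSpec := ⟨y, rfl⟩
    rw [hU.range_fromSpec] at this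
    exact this
  have hloc := hU.isLocalization_stalk' y hy
  have h1 := h (hU.fromSpec y) hy
  letI alg : Algebra Γ(X, U) (X.presheaf.stalk (hU.fromSpec y)) :=
    TopCat.Presheaf.algebra_section_stalk X.presheaf ⟨hU.fromSpec y, hy⟩
  obtain ⟨⟨a, m⟩, e⟩ := (@IsLocalization.mem_map_algebraMap_iff _ _ y.asIdeal.primeCompl
    (X.presheaf.stalk (hU.fromSpec y)) _ alg hloc J _).1 h1
  have e' : algebraMap Γ(X, U) (X.presheaf.stalk (hU.fromSpec y)) (s * m.1) =
      algebraMap Γ(X, U) (X.presheaf.stalk (hU.fromSpec y)) a.1 := by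
    rw [map_mul]; exact e
  obtain ⟨c, hc⟩ := (@IsLocalization.eq_iff_exists _ _ y.asIdeal.primeCompl
    (X.presheaf.stalk (hU.fromSpec y)) _ alg hloc _ _).1 e'
  have h2 : (c.1 * m.1) * s ∈ J := by
    have : (c.1 * m.1) * s = c.1 * (s * m.1) := by ring
    rw [this, hc]
    exact J.mul_mem_left _ a.2
  have h3 : c.1 * m.1 ∈ P := hIP h2
  rcases hP.isPrime.mem_or_mem h3 with h4 | h4
  · exact c.2 h4
  · exact m.2 h4

/-- Fact 1'. -/
theorem K_le_map_of_stalk {V V' : X.Opens} (hV' : IsAffineOpen V') (hle : V' ≤ V)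
    (J : Ideal Γ(X, V))
    (hJ : ∀ (x : X) (hx : x ∈ V), Kx i x ≤ J.map (X.presheaf.germ V x hx).hom) :
    K i V' ≤ J.map (X.presheaf.map (homOfLE hle).op).hom := by
  intro s hs
  apply mem_of_forall_germ hV'
  intro x hx
  have h1 := hJ x (hle hx) (germ_mem i hs x hx)
  rw [Ideal.map_map]
  have h2 : (X.presheaf.germ V' x hx).hom.comp (X.presheaf.map (homOfLE hle).op).hom =
      (X.presheaf.germ V x (hle hx)).hom := by
    rw [← CommRingCat.hom_comp, X.presheaf.germ_res]
  rw [h2]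
  exact h1

/-- the kernel is local. -/
theorem mem_K_of_locally {U : X.Opens} (s : Γ(X, U))
    (h : ∀ x ∈ U, ∃ (V : X.Opens) (hVU : V ≤ U), x ∈ V ∧
      X.presheaf.map (homOfLE hVU).op s ∈ K i V) : s ∈ K i U := by
  rw [mem_K]
  choose V hVU hxV hV using h
  refine TopCat.Sheaf.eq_of_locally_eq' Z.sheaf
    (fun x : U => (Opens.map i.base).obj (V x.1 x.2)) ((Opens.map i.base).obj U)
    (fun x => homOfLE ((Opens.map i.base).monotone (hVU x.1 x.2))) ?_ _ _ ?_
  · intro z hz
    have hz' : i.base z ∈ U := hz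
    exact Opens.mem_iSup.2 ⟨⟨i.base z, hz'⟩, hxV _ hz'⟩
  · intro x
    have h1 := Groth.Agent.H8.LRSFac.nat_c i (hVU x.1 x.2) s
    have h2 := hV x.1 x.2
    rw [mem_K] at h2
    rw [h2] at h1
    exact h1.symm.trans (map_zero _).symm

end Groth.Agent.H5.LRSCI
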