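import Mathlib
import Groth.Agent.Lib.Helper5.LRSCI.Ker

/-! helper5: the kernel of a closed immersion of a locally ringed space into a scheme is a
quasi-coherent ideal sheaf (`IdealSheafData`), part 2. -/

set_option autoImplicit false

universe u

open CategoryTheory TopologicalSpace Opposite AlgebraicGeometry

namespace Groth.Agent.H5.LRSCI

variable {X : Scheme.{u}} {Z : LocallyRingedSpace.{u}} (i : Z ⟶ X.toLocallyRingedSpace)

/-- local step for `exists_pow_mul_mem_K`. -/
theorem exists_pow_mul_mem_K_nhds (hgen : LRSImm.KerLocallyGenerated i) {U : X.Opens}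
    (hU : IsAffineOpen U) (g r : Γ(X, U))
    (hr : X.presheaf.map (homOfLE (X.basicOpen_le g)).op r ∈ K i (X.basicOpen g))
    (x : X) (hx : x ∈ U) :
    ∃ (N : ℕ) (V : X.Opens) (hVU : V ≤ U), x ∈ V ∧
      X.presheaf.map (homOfLE hVU).op (g ^ N * r) ∈ K i V := by
  obtain ⟨W, hxW, ι, s, hs0, hspan⟩ := hgen x
  obtain ⟨f, hfW, hxf⟩ := hU.exists_basicOpen_le ⟨x, hxW⟩ hx
  have hVU : X.basicOpen f ≤ U := X.basicOpen_le f
  have hV : IsAffineOpen (X.basicOpen f) := hU.basicOpen f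
  let J : Ideal Γ(X, X.basicOpen f) :=
    Ideal.span (Set.range fun j => X.presheaf.map (homOfLE hfW).op (s j))
  have hJK : J ≤ K i (X.basicOpen f) := by
    rw [Ideal.span_le]
    rintro _ ⟨j, rfl⟩
    exact K_res i hfW (hs0 j)
  have hJx : ∀ (x' : X) (hx' : x' ∈ X.basicOpen f),
      Kx i x' ≤ J.map (X.presheaf.germ (X.basicOpen f) x' hx').hom := by
    intro x' hx'
    have h0 := hspan x' (hfW hx')
    refine le_trans (show Kx i x' ≤ _ from h0.ge) ?_
    rw [Ideal.span_le]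
    rintro _ ⟨j, rfl⟩
    have h1 : X.presheaf.germ (X.basicOpen f) x' hx' (X.presheaf.map (homOfLE hfW).op (s j)) ∈
        J.map (X.presheaf.germ (X.basicOpen f) x' hx').hom :=
      Ideal.mem_map_of_mem _ (Ideal.subset_span ⟨j, rfl⟩)
    have h2 : X.presheaf.germ (X.basicOpen f) x' hx' (X.presheaf.map (homOfLE hfW).op (s j)) =
        X.presheaf.germ W x' (hfW hx') (s j) :=
      TopCat.Presheaf.germ_res_apply X.presheaf (homOfLE hfW) x' hx' (s j)
    rw [h2] at h1
    exact h1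
  let gV : Γ(X, X.basicOpen f) := X.presheaf.map (homOfLE hVU).op g
  let rV : Γ(X, X.basicOpen f) := X.presheaf.map (homOfLE hVU).op r
  have hV' : IsAffineOpen (X.basicOpen gV) := hV.basicOpen gV
  have hV'V : X.basicOpen gV ≤ X.basicOpen f := X.basicOpen_le gV
  have hV'g : X.basicOpen gV ≤ X.basicOpen g := by
    rw [X.basicOpen_res]; exact inf_le_right
  have h1 : X.presheaf.map (homOfLE hV'V).op rV ∈ K i (X.basicOpen gV) := by
    have h := K_res i hV'g hr
    rw [Groth.Agent.H8.LRSFac.res_res] at h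
    show X.presheaf.map (homOfLE hV'V).op (X.presheaf.map (homOfLE hVU).op r) ∈ _
    rw [Groth.Agent.H8.LRSFac.res_res]
    exact h
  have h2 := K_le_map_of_stalk i hV' hV'V J hJx h1
  haveI := hV.isLocalization_basicOpen gV
  obtain ⟨⟨a, m⟩, e⟩ := (IsLocalization.mem_map_algebraMap_iff (Submonoid.powers gV)
    Γ(X, X.basicOpen gV)).1 h2
  have e' : algebraMap Γ(X, X.basicOpen f) Γ(X, X.basicOpen gV) (rV * m.1) =
      algebraMap Γ(X, X.basicOpen f) Γ(X, X.basicOpen gV) a.1 := by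
    rw [map_mul]; exact e
  obtain ⟨c, hc⟩ := (IsLocalization.eq_iff_exists (Submonoid.powers gV)
    Γ(X, X.basicOpen gV)).1 e'
  obtain ⟨n1, hn1⟩ := m.2
  obtain ⟨n2, hn2⟩ := c.2
  replace hn1 : gV ^ n1 = m.1 := hn1
  replace hn2 : gV ^ n2 = c.1 := hn2
  refine ⟨n2 + n1, X.basicOpen f, hVU, hxf, hJK ?_⟩
  have h3 : X.presheaf.map (homOfLE hVU).op (g ^ (n2 + n1) * r) = c.1 * (rV * m.1) := by
    rw [map_mul, map_pow, ← hn1, ← hn2]
    show gV ^ (n2 + n1) * rV = _
    ring
  rw [h3, hc]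
  exact J.mul_mem_left _ a.2

/-- Lemma C: a section of `O_X` over an affine open `U` lying in the kernel over `D(g)` is
killed into the kernel by a power of `g`. -/
theorem exists_pow_mul_mem_K (hgen : LRSImm.KerLocallyGenerated i) {U : X.Opens}
    (hU : IsAffineOpen U) (g r : Γ(X, U))
    (hr : X.presheaf.map (homOfLE (X.basicOpen_le g)).op r ∈ K i (X.basicOpen g)) :
    ∃ N : ℕ, g ^ N * r ∈ K i U := by
  let O : ℕ → Set X := fun N => {x | ∃ (V : X.Opens) (hVU : V ≤ U), x ∈ V ∧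
    X.presheaf.map (homOfLE hVU).op (g ^ N * r) ∈ K i V}
  have hO : ∀ N, IsOpen (O N) := by
    intro N
    rw [isOpen_iff_forall_mem_open]
    rintro x ⟨V, hVU, hxV, hV⟩
    exact ⟨V, fun y hy => ⟨V, hVU, hy, hV⟩, V.2, hxV⟩
  have hmono : Monotone O := by
    rintro N N' hNN' x ⟨V, hVU, hxV, hV⟩
    refine ⟨V, hVU, hxV, ?_⟩
    obtain ⟨k, rfl⟩ := Nat.exists_eq_add_of_le hNN'
    have : g ^ (N + k) * r = g ^ k * (g ^ N * r) := by ring
    rw [this, map_mul]
    exact (K i V).mul_mem_left _ hV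
  have hcov : (U : Set X) ⊆ ⋃ N, O N := by
    intro x hx
    obtain ⟨N, V, hVU, hxV, hV⟩ := exists_pow_mul_mem_K_nhds i hgen hU g r hr x hx
    exact Set.mem_iUnion.2 ⟨N, V, hVU, hxV, hV⟩
  obtain ⟨N, hN⟩ := hU.isCompact.elim_directed_cover O hO hcov hmono.directed_le
  refine ⟨N, mem_K_of_locally i _ ?_⟩
  intro x hx
  exact hN hx

/-- (★): the stalk kernel is generated by sections over any affine open. -/
theorem Kx_le_map_K (hgen : LRSImm.KerLocallyGenerated i) {U : X.Opens}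
    (hU : IsAffineOpen U) (x : X) (hx : x ∈ U) :
    Kx i x ≤ (K i U).map (X.presheaf.germ U x hx).hom := by
  obtain ⟨W, hxW, ι, s, hs0, hspan⟩ := hgen x
  refine le_trans (show Kx i x ≤ _ from (hspan x hxW).ge) ?_
  rw [Ideal.span_le]
  rintro _ ⟨j, rfl⟩
  obtain ⟨g, hgW, hxg⟩ := hU.exists_basicOpen_le ⟨x, hxW⟩ hx
  let t : Γ(X, X.basicOpen g) := X.presheaf.map (homOfLE hgW).op (s j)
  have ht : t ∈ K i (X.basicOpen g) := K_res i hgW (hs0 j)
  haveI := hU.isLocalization_basicOpen g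
  obtain ⟨⟨r, m⟩, e⟩ := IsLocalization.surj (Submonoid.powers g) t
  obtain ⟨n, hn⟩ := m.2
  have hn' : g ^ n = m.1 := hn
  have e2 : X.presheaf.map (homOfLE (X.basicOpen_le g)).op r =
      t * X.presheaf.map (homOfLE (X.basicOpen_le g)).op (g ^ n) := by
    rw [hn']; exact e.symm
  have hr : X.presheaf.map (homOfLE (X.basicOpen_le g)).op r ∈ K i (X.basicOpen g) := by
    rw [e2]; exact (K i (X.basicOpen g)).mul_mem_right _ ht
  obtain ⟨N, hN⟩ := exists_pow_mul_mem_K i hgen hU g r hr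
  have hunit : IsUnit (X.presheaf.germ U x hx g) := (X.mem_basicOpen g x hx).1 hxg
  have h1 : X.presheaf.germ U x hx (g ^ N * r) ∈ (K i U).map (X.presheaf.germ U x hx).hom :=
    Ideal.mem_map_of_mem _ hN
  have e1 : X.presheaf.germ U x hx r = X.presheaf.germ (X.basicOpen g) x hxg
      (X.presheaf.map (homOfLE (X.basicOpen_le g)).op r) :=
    (TopCat.Presheaf.germ_res_apply X.presheaf (homOfLE (X.basicOpen_le g)) x hxg r).symm
  have e3 : X.presheaf.germ (X.basicOpen g) x hxg t = X.presheaf.germ W x hxW (s j) :=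
    TopCat.Presheaf.germ_res_apply X.presheaf (homOfLE hgW) x hxg (s j)
  have e4 : X.presheaf.germ (X.basicOpen g) x hxg
      (X.presheaf.map (homOfLE (X.basicOpen_le g)).op (g ^ n)) = X.presheaf.germ U x hx (g ^ n) :=
    TopCat.Presheaf.germ_res_apply X.presheaf (homOfLE (X.basicOpen_le g)) x hxg (g ^ n)
  have h2 : X.presheaf.germ U x hx (g ^ N * r) =
      (X.presheaf.germ U x hx g) ^ (N + n) * X.presheaf.germ W x hxW (s j) := by
    rw [map_mul, e1, e2, map_mul, e3, e4, map_pow, map_pow]; ring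
  rw [h2] at h1
  exact (Ideal.unit_mul_mem_iff_mem _ (hunit.pow _)).1 h1

/-- quasi-coherence of the kernel. -/
theorem map_K_basicOpen (hgen : LRSImm.KerLocallyGenerated i) {U : X.Opens}
    (hU : IsAffineOpen U) (f : Γ(X, U)) :
    (K i U).map (X.presheaf.map (homOfLE (X.basicOpen_le f)).op).hom = K i (X.basicOpen f) := by
  apply le_antisymm
  · rw [Ideal.map_le_iff_le_comap]
    intro s hs
    exact K_res i (X.basicOpen_le f) hs
  · exact K_le_map_of_stalk i (hU.basicOpen f) (X.basicOpen_le f) (K i U)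
      (fun x hx => Kx_le_map_K i hgen hU x hx)

/-- the kernel ideal sheaf. -/
noncomputable def idealSheaf (hgen : LRSImm.KerLocallyGenerated i) : X.IdealSheafData where
  ideal U := K i U.1
  map_ideal_basicOpen U f := map_K_basicOpen i hgen U.2 f

theorem idealSheaf_ideal (hgen : LRSImm.KerLocallyGenerated i) (U : X.affineOpens) :
    (idealSheaf i hgen).ideal U = K i U.1 := rfl

end Groth.Agent.H5.LRSCI
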