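import Mathlib
import Groth.Agent.Lib.Helper5.LRSCI.QCoh

/-! helper5: a closed immersion of a locally ringed space into a scheme is isomorphic to the closed
subscheme cut out by its kernel. -/

set_option autoImplicit false

universe u

open CategoryTheory TopologicalSpace Opposite AlgebraicGeometry

namespace Groth.Agent.H5.LRSCI

/-- factorisation through a closed immersion (helper8's construction, packaged). -/
theorem exists_fac {Z X Y : LocallyRingedSpace.{u}} (i : Z ⟶ X) (f : Y ⟶ X)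
    (hemb : Topology.IsClosedEmbedding i.base)
    (hsurj : TopCat.Presheaf.IsLocallySurjective i.c)
    (hker : ∀ (U : Opens X.toTopCat) (s : X.presheaf.obj (op U)),
        i.c.app (op U) s = 0 → f.c.app (op U) s = 0) :
    ∃ g : Y ⟶ Z, g ≫ i = f := by
  have hrange := Groth.Agent.H8.LRSFac.range_subset i f hemb.isClosed_range hker
  choose g₀ hg₀ using hrange
  have hcont : Continuous g₀ := by
    rw [hemb.isEmbedding.continuous_iff]
    have : (i.base ∘ g₀) = f.base := funext hg₀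
    rw [this]
    exact f.base.hom.continuous
  let D : Groth.Agent.H8.LRSFac.Data i f := ⟨TopCat.ofHom ⟨g₀, hcont⟩, hg₀, hemb, hsurj, hker⟩
  exact ⟨D.g, D.g_comp⟩

/-- two closed immersions with the same kernel are isomorphic. -/
theorem exists_iso_of_ker_eq {Z₁ Z₂ X : LocallyRingedSpace.{u}} (i₁ : Z₁ ⟶ X) (i₂ : Z₂ ⟶ X)
    (hemb₁ : Topology.IsClosedEmbedding i₁.base)
    (hsurj₁ : TopCat.Presheaf.IsLocallySurjective i₁.c)
    (hemb₂ : Topology.IsClosedEmbedding i₂.base)
    (hsurj₂ : TopCat.Presheaf.IsLocallySurjective i₂.c)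
    (hker : ∀ (U : Opens X.toTopCat) (s : X.presheaf.obj (op U)),
        i₁.c.app (op U) s = 0 ↔ i₂.c.app (op U) s = 0) :
    ∃ e : Z₁ ≅ Z₂, e.hom ≫ i₂ = i₁ := by
  obtain ⟨g, hg⟩ := exists_fac i₂ i₁ hemb₂ hsurj₂ (fun U s h => (hker U s).2 h)
  obtain ⟨g', hg'⟩ := exists_fac i₁ i₂ hemb₁ hsurj₁ (fun U s h => (hker U s).1 h)
  haveI := Groth.Agent.H8.LRSFac.mono_of i₁ hemb₁ hsurj₁
  haveI := Groth.Agent.H8.LRSFac.mono_of i₂ hemb₂ hsurj₂
  refine ⟨⟨g, g', ?_, ?_⟩, hg⟩
  · rw [← cancel_mono i₁, Category.assoc, hg', hg, Category.id_comp]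
  · rw [← cancel_mono i₂, Category.assoc, hg, hg', Category.id_comp]

variable {X : Scheme.{u}} {Z : LocallyRingedSpace.{u}} (i : Z ⟶ X.toLocallyRingedSpace)

theorem K_le_of_affine {Z₁ Z₂ : LocallyRingedSpace.{u}} (i₁ : Z₁ ⟶ X.toLocallyRingedSpace)
    (i₂ : Z₂ ⟶ X.toLocallyRingedSpace)
    (h : ∀ U : X.affineOpens, K i₁ U.1 ≤ K i₂ U.1) (U : X.Opens) : K i₁ U ≤ K i₂ U := by
  intro s hs
  apply mem_K_of_locally
  intro x hx
  obtain ⟨V, hV, hxV, hVU⟩ := (Opens.isBasis_iff_nbhd.1 X.isBasis_affineOpens) hx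
  exact ⟨V, hVU, hxV, h ⟨V, hV⟩ (K_res i₁ hVU hs)⟩

theorem K_subschemeι (I : X.IdealSheafData) (U : X.affineOpens) :
    K I.subschemeι.toLRSHom U.1 = I.ideal U := I.ker_subschemeι_app U

theorem isLocallySurjective_subschemeι (I : X.IdealSheafData) :
    TopCat.Presheaf.IsLocallySurjective I.subschemeι.toLRSHom.c := by
  rw [TopCat.Presheaf.isLocallySurjective_iff]
  intro U t x hx
  obtain ⟨V, hV, hxV, hVU⟩ := (Opens.isBasis_iff_nbhd.1 X.isBasis_affineOpens) hx
  obtain ⟨s, hs⟩ := I.subschemeι_app_surjective ⟨V, hV⟩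
    (TopCat.Presheaf.restrictOpen t V hVU)
  exact ⟨V, hVU, ⟨s, hs⟩, hxV⟩

/-- the closed subscheme cut out by the kernel is isomorphic to `Z` over `X`. -/
theorem exists_iso (hi : LRSImm.IsClosedImmersion i) :
    ∃ e : (idealSheaf i hi.2.2).subscheme.toLocallyRingedSpace ≅ Z,
      e.hom ≫ i = (idealSheaf i hi.2.2).subschemeι.toLRSHom := by
  obtain ⟨hemb, hsurj, hgen⟩ := hi
  have hK : ∀ U : X.Opens, K (idealSheaf i hgen).subschemeι.toLRSHom U = K i U := by
    intro U
    apply le_antisymm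
    · exact K_le_of_affine _ _ (fun V => by rw [K_subschemeι, idealSheaf_ideal]) U
    · exact K_le_of_affine _ _ (fun V => by rw [K_subschemeι, idealSheaf_ideal]) U
  exact exists_iso_of_ker_eq (idealSheaf i hgen).subschemeι.toLRSHom i
    (idealSheaf i hgen).subschemeι.isClosedEmbedding
    (isLocallySurjective_subschemeι _) hemb hsurj
    (fun U s => by
      have := hK U
      constructor
      · intro h
        have h' : s ∈ K (idealSheaf i hgen).subschemeι.toLRSHom U := h
        rw [this] at h'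
        exact h'
      · intro h
        have h' : s ∈ K i U := h
        rw [← this] at h'
        exact h')

end Groth.Agent.H5.LRSCI
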