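import Mathlib
import Groth.Agent.Lib.Helper5.LRSCI.Iso

/-! helper5: a closed immersion of a locally ringed space into `Spec R` is `Spec (R ⧸ I)`. -/

set_option autoImplicit false

universe u

open CategoryTheory TopologicalSpace Opposite AlgebraicGeometry

namespace Groth.Agent.H5.LRSCI

theorem exists_iso_spec (R : Type u) [CommRing R] (Z : LocallyRingedSpace.{u})
    (i : Z ⟶ (Spec (CommRingCat.of R)).toLocallyRingedSpace) (hi : LRSImm.IsClosedImmersion i)
    (I : Ideal R)
    (hI : I = RingHom.ker ((Scheme.ΓSpecIso (CommRingCat.of R)).inv ≫ i.c.app (op ⊤)).hom) :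
    ∃ e : Z ≅ (Spec (CommRingCat.of (R ⧸ I))).toLocallyRingedSpace,
      e.hom ≫ (Spec.map (CommRingCat.ofHom (Ideal.Quotient.mk I))).toLRSHom = i := by
  obtain ⟨e₁, he₁⟩ := exists_iso i hi
  let jS : Spec (CommRingCat.of (R ⧸ I)) ⟶ Spec (CommRingCat.of R) :=
    Spec.map (CommRingCat.ofHom (Ideal.Quotient.mk I))
  haveI : IsClosedImmersion jS :=
    IsClosedImmersion.spec_of_surjective _ Ideal.Quotient.mk_surjective
  have hmemI : ∀ r : R, r ∈ I ↔
      i.c.app (op ⊤) ((Scheme.ΓSpecIso (CommRingCat.of R)).inv r) = 0 := by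
    intro r
    rw [hI]
    rfl
  have hker : (idealSheaf i hi.2.2).subschemeι.ker = jS.ker := by
    rw [Scheme.IdealSheafData.ker_subschemeι]
    apply Scheme.IdealSheafData.ext_of_isAffine
    rw [jS.ker_apply, idealSheaf_ideal]
    ext s
    rw [mem_K, RingHom.mem_ker]
    have hnat := Scheme.ΓSpecIso_naturality (CommRingCat.ofHom (Ideal.Quotient.mk I))
    have h1 : (Scheme.ΓSpecIso (CommRingCat.of (R ⧸ I))).hom (jS.appTop s) =
        Ideal.Quotient.mk I ((Scheme.ΓSpecIso (CommRingCat.of R)).hom s) :=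
      ConcreteCategory.congr_hom hnat s
    have h2 : jS.appTop s = 0 ↔ (Scheme.ΓSpecIso (CommRingCat.of R)).hom s ∈ I := by
      rw [← Ideal.Quotient.eq_zero_iff_mem, ← h1]
      constructor
      · intro h; rw [h, map_zero]
      · intro h
        have := congrArg (Scheme.ΓSpecIso (CommRingCat.of (R ⧸ I))).inv h
        rw [map_zero] at this
        rw [← this]
        exact (ConcreteCategory.congr_hom (Scheme.ΓSpecIso (CommRingCat.of (R ⧸ I))).hom_inv_id
          (jS.appTop s)).symm
    have h3 : (Scheme.ΓSpecIso (CommRingCat.of R)).inv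
        ((Scheme.ΓSpecIso (CommRingCat.of R)).hom s) = s :=
      ConcreteCategory.congr_hom (Scheme.ΓSpecIso (CommRingCat.of R)).hom_inv_id s
    constructor
    · intro h
      exact h2.2 ((hmemI _).2 (by rw [h3]; exact h))
    · intro h
      have := (hmemI _).1 (h2.1 h)
      rw [h3] at this
      exact this
  let a := IsClosedImmersion.lift jS (idealSheaf i hi.2.2).subschemeι hker.ge
  let b := IsClosedImmersion.lift (idealSheaf i hi.2.2).subschemeι jS hker.le
  have ha : a ≫ jS = (idealSheaf i hi.2.2).subschemeι := IsClosedImmersion.lift_fac _ _ _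
  have hb : b ≫ (idealSheaf i hi.2.2).subschemeι = jS := IsClosedImmersion.lift_fac _ _ _
  have hab : a ≫ b = 𝟙 _ := by
    rw [← cancel_mono (idealSheaf i hi.2.2).subschemeι, Category.assoc, hb, ha, Category.id_comp]
  have hba : b ≫ a = 𝟙 _ := by
    rw [← cancel_mono jS, Category.assoc, ha, hb, Category.id_comp]
  let eS : (idealSheaf i hi.2.2).subscheme ≅ Spec (CommRingCat.of (R ⧸ I)) := ⟨a, b, hab, hba⟩
  refine ⟨e₁.symm ≪≫ Scheme.forgetToLocallyRingedSpace.mapIso eS, ?_⟩
  have h4 : a.toLRSHom ≫ jS.toLRSHom = (idealSheaf i hi.2.2).subschemeι.toLRSHom :=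
    congrArg Scheme.Hom.toLRSHom ha
  show (e₁.inv ≫ a.toLRSHom) ≫ jS.toLRSHom = i
  rw [Category.assoc, h4, ← he₁, Iso.inv_hom_id_assoc]

end Groth.Agent.H5.LRSCI
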